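import Cfsg.Agent.H174.EB.Stab
import Cfsg.Agent.H610.EB.DRed

/-!
# TEAM EB: actions of rank 3 with two even degrees (helper332)

`evenB_of_two` : `S` acts on `X` with permutation character `1 + φ + ψ`, `φ(1)` even and different from `ψ(1)`, the
automorphisms of `S` permute the point stabilizers, and the characters of degree `φ(1)` are in the principal block.
-/

set_option autoImplicit false
set_option linter.unusedSectionVars false
set_option linter.style.haveILetI false

namespace Cfsg.Agent.H332.EB.Two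

open Cfsg Cfsg.Agent.H694 Cfsg.Agent.H610 Cfsg.Agent.H610.EB Cfsg.Agent.H684.EB Cfsg.Agent.H174.EB MulAction
open scoped ComplexConjugate
open Cfsg.Agent.Characters.Core
open Cfsg.Agent.Blocks.Basic (irr_one_eq_charDegree charDegree_def)
open Cfsg.Agent.Blocks.Covering (conjIrr conjIrr_apply)

universe u v w

/-- the permutation character on the images of the stabilizers -/
theorem permS_stabs {S : Type w} [Group S] {N : Type u} [Group N] {X : Type v} [MulAction S X] (f : S ≃* N)
    (hinj : Function.Injective fun x : X => stabilizer S x) (n : N) :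
    permS (stabs X f) n = (Nat.card (fixedBy X (f.symm n)) : ℂ) := by
  have hc : ∀ x : X, ((stabilizer S x).map f.toMonoidHom).map (MulAut.conj n).toMonoidHom =
      (stabilizer S (f.symm n • x)).map f.toMonoidHom := by
    intro x
    have h1 := conj_map X f (f.symm n) x
    rwa [f.apply_symm_apply] at h1
  rw [permS]
  congr 1
  symm
  refine Nat.card_congr (Equiv.ofBijective (fun x : fixedBy X (f.symm n) =>
    (⟨(stabilizer S (x : X)).map f.toMonoidHom, ⟨x, rfl⟩, by rw [hc, x.2]⟩ :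
      {H : Subgroup N // H ∈ stabs X f ∧ H.map (MulAut.conj n).toMonoidHom = H})) ⟨?_, ?_⟩)
  · intro x y hxy
    exact Subtype.ext (hinj (map_inj f (congrArg Subtype.val hxy)))
  · rintro ⟨_, ⟨x, rfl⟩, hx⟩
    rw [hc] at hx
    exact ⟨⟨x, hinj (map_inj f hx)⟩, rfl⟩

theorem charDegree_one' {G : Type*} [Group G] : charDegree (1 : G → ℂ) = 1 := by
  unfold charDegree
  simp

/-- The constituents of `1 + φ + ψ` of the degree of `φ`. -/
theorem eq_of_degree {N : Type u} [Group N] [Fintype N] {π : N → ℂ} {φ ψ : IrrCharacter N}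
    (hπ : π = 1 + (φ : N → ℂ) + (ψ : N → ℂ)) (heven : Even (charDegree (φ : N → ℂ)))
    (hne : charDegree (φ : N → ℂ) ≠ charDegree (ψ : N → ℂ)) (θ : IrrCharacter N)
    (hd : charDegree (θ : N → ℂ) = charDegree (φ : N → ℂ)) (h : classInner π (θ : N → ℂ) ≠ 0) : θ = φ := by
  by_contra hcon
  apply h
  have h1 : (θ : N → ℂ) ≠ 1 := by
    intro h0
    rw [← hd, h0, charDegree_one'] at heven
    exact absurd heven (by decide)
  have h2 : (θ : N → ℂ) ≠ φ := fun h0 => hcon (Subtype.ext h0)
  have h3 : (θ : N → ℂ) ≠ ψ := by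
    intro h0
    rw [h0] at hd
    exact hne hd.symm
  rw [hπ, classInner_add_left, classInner_add_left, classInner_irr_ne isIrr_one θ.2 h1.symm,
    classInner_irr_ne φ.2 θ.2 h2.symm, classInner_irr_ne ψ.2 θ.2 h3.symm]
  norm_num

theorem inner_eq_one {N : Type u} [Group N] [Fintype N] {π : N → ℂ} {φ ψ : IrrCharacter N}
    (hπ : π = 1 + (φ : N → ℂ) + (ψ : N → ℂ)) (heven : Even (charDegree (φ : N → ℂ)))
    (hne : charDegree (φ : N → ℂ) ≠ charDegree (ψ : N → ℂ)) : classInner π (φ : N → ℂ) = 1 := by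
  have h1 : (φ : N → ℂ) ≠ 1 := by
    intro h0
    rw [h0, charDegree_one'] at heven
    exact absurd heven (by decide)
  have h3 : (ψ : N → ℂ) ≠ φ := by
    intro h0
    rw [h0] at hne
    exact hne rfl
  rw [hπ, classInner_add_left, classInner_add_left, classInner_irr_ne isIrr_one φ.2 h1.symm,
    classInner_irr_self φ.2, classInner_irr_ne ψ.2 φ.2 h3]
  norm_num

/-- **Rank 3 with two even degrees.** -/
theorem evenB_of_two {S₀ : Type w} [Group S₀] {S : Type u} [Group S] (e : S₀ ≃* S) (X : Type v) [MulAction S₀ X]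
    (hinj : Function.Injective fun x : X => stabilizer S₀ x)
    (haut : ∀ (α : S₀ ≃* S₀) (x : X), ∃ y : X, (stabilizer S₀ x).map α.toMonoidHom = stabilizer S₀ y)
    (φ₀ ψ₀ : IrrCharacter S₀) (heven : Even (charDegree (φ₀ : S₀ → ℂ)))
    (hne : charDegree (φ₀ : S₀ → ℂ) ≠ charDegree (ψ₀ : S₀ → ℂ))
    (hπ : ∀ g : S₀, (Nat.card (fixedBy X g) : ℂ) = 1 + (φ₀ : S₀ → ℂ) g + (ψ₀ : S₀ → ℂ) g)
    (hmem : ∀ (N : Type u) [Group N] [Fintype N], Nonempty (S₀ ≃* N) → ∀ M : Ideal AlgInt, IsPModular 2 M →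
      ∀ φ : IrrCharacter N, charDegree (φ : N → ℂ) = charDegree (φ₀ : S₀ → ℂ) → φ ∈ principalBlock M N) :
    EvenB S := by
  intro G _ _ N _ _ hf hC hi k hk M hM
  obtain ⟨f'⟩ := hf
  obtain ⟨f, -⟩ : ∃ f : S₀ ≃* N, f = e.trans f' := ⟨_, rfl⟩
  -- the set of subgroups
  have hX : ∀ g : G, ∀ H ∈ stabs X f, cmap N g H ∈ stabs X f := by
    rintro g _ ⟨x, rfl⟩
    obtain ⟨y, hy⟩ := haut ((f.trans (MulAut.conjNormal g : MulAut N)).trans f.symm) x
    refine ⟨y, ?_⟩
    rw [← hy, cmap, Subgroup.map_map, Subgroup.map_map]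
    congr 1
    ext s
    simp
  have hXN : ∀ g : N, ∀ H ∈ stabs X f, H.map (MulAut.conj g).toMonoidHom ∈ stabs X f := by
    intro g H hH
    rw [← cmap_coe]
    exact hX _ _ hH
  -- the characters of `N`
  let φ : IrrCharacter N := ⟨(φ₀ : S₀ → ℂ) ∘ f.symm, isIrr_comp f.symm.toMonoidHom f.symm.surjective φ₀.2⟩
  let ψ : IrrCharacter N := ⟨(ψ₀ : S₀ → ℂ) ∘ f.symm, isIrr_comp f.symm.toMonoidHom f.symm.surjective ψ₀.2⟩
  have hdφ : charDegree (φ : N → ℂ) = charDegree (φ₀ : S₀ → ℂ) := by
    show charDegree ((φ₀ : S₀ → ℂ) ∘ f.symm) = _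
    unfold charDegree
    rw [Function.comp_apply, map_one]
  have hdψ : charDegree (ψ : N → ℂ) = charDegree (ψ₀ : S₀ → ℂ) := by
    show charDegree ((ψ₀ : S₀ → ℂ) ∘ f.symm) = _
    unfold charDegree
    rw [Function.comp_apply, map_one]
  have hπN : permS (stabs X f) = 1 + (φ : N → ℂ) + (ψ : N → ℂ) := by
    funext n
    rw [permS_stabs f hinj, hπ]
    rfl
  have hevenN : Even (charDegree (φ : N → ℂ)) := by rwa [hdφ]
  have hneN : charDegree (φ : N → ℂ) ≠ charDegree (ψ : N → ℂ) := by rwa [hdφ, hdψ]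
  have hone := inner_eq_one hπN hevenN hneN
  have hmu : mu (permS (stabs X f)) (φ : N → ℂ) = 1 := mu_eq (by rw [hone]; norm_num)
  haveI : Finite (stabs X f) := Subtype.finite
  -- invariance of the permutation character
  have hXinv : ∀ (d : G) (s : N), permS (stabs X f) (MulAut.conjNormal d s) = permS (stabs X f) s := by
    intro d s
    letI := actSet N (stabs X f) hX
    rw [← permC_restrict N (stabs X f) hX, ← permC_restrict N (stabs X f) hX]
    have h1 := (GC.of_rchar (rchar_perm (G := G) (stabs X f))).cf (s : G) d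
    rw [MulAut.conjNormal_apply]
    exact h1
  have hXk : ∀ s : N, permS (stabs X f) (s ^ k) = permS (stabs X f) s := by
    intro s
    letI := actS (stabs X f) hXN
    rw [permS_eq (stabs X f) hXN]
    show (Nat.card (MulAction.fixedBy (stabs X f) (s ^ k)) : ℂ) = _
    rw [fixedBy_pow (hk.sub N)]
    rfl
  have hGC : GC (permS (stabs X f)) := by
    letI := actS (stabs X f) hXN
    have h1 : GC (permC N (stabs X f)) := GC.of_rchar (rchar_perm (stabs X f))
    rwa [← permS_eq (stabs X f) hXN] at h1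
  refine concl_of_phi hM N hi hk (stabs X f) hX φ (hmem N ⟨f⟩ M hM φ hdφ) ?_ ?_ hevenN (by
    rw [hmu]
    exact odd_one)
  · -- the power map
    have h5 : classInner (permS (stabs X f)) (Twist.pw (hk.sub N).coprime φ : N → ℂ) ≠ 0 := by
      rw [classInner_pw (hk.sub N) hXk, hone]
      exact one_ne_zero
    have h6 := eq_of_degree hπN hevenN hneN _ (charDegree_pw (hk.sub N) φ) h5
    intro s
    rw [← Twist.pw_apply (hk.sub N).coprime φ s, h6]
  · intro g
    refine eq_of_degree hπN hevenN hneN _ (charDegree_conjIrr N g φ) ?_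
    rw [classInner_conj_of_inv N g (fun s => hXinv g s), hone]
    exact one_ne_zero

end Cfsg.Agent.H332.EB.Two
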