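import Cfsg.Agent.H332.EB.Zero
import Cfsg.Agent.H332.EB.Two
import Cfsg.Agent.R08.FiTwentyThree
import Cfsg.Agent.H830.Con22
import Cfsg.Agent.H816.Quasi
import Cfsg.Agent.KFacts.FiTTh.Has

/-!
# TEAM EB: the row `Fi₂₃` (helper332)

The action on the 31671 transpositions, permutation character `1 + 782 + 30888`. For two commuting transpositions
`x ≠ y` the number of elements of a conjugacy class mapping `y` to `x` is even (conjugate with `y`); the graph of the
noncommuting transpositions has the parameters `(31671, 28160, 25000, 25344)`.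
-/

set_option autoImplicit false
set_option linter.unusedSectionVars false
set_option linter.style.haveILetI false

namespace Cfsg.Agent.H332.EB.FiTh

open Cfsg Cfsg.Agent.Characters Cfsg.Agent.Characters.Core Cfsg.Agent.H690.Spor.RankThree
open Cfsg.Agent.H690.Spor.RankThree.R3 Cfsg.Agent.H610.EB Cfsg.Agent.H694 Cfsg.Agent.H694.EB Cfsg.Agent.H684.EB
open Cfsg.Agent.H610 Cfsg.Agent.H305.EB Cfsg.Agent.Fischer.Abstract
open Cfsg.Agent.Fischer480.Defs (IsT6 IsT7 Loc Com)
open Cfsg.Spor (Fi23)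

universe u v

/-- The number of conjugates of `g` mapping `y` to `x`, for commuting transpositions. -/
theorem even_cn {G : Type u} {X : Type v} [Group G] [Fintype G] [MulAction G X] (t : X → G)
    (hinj : Function.Injective t) (hsm : ∀ (g : G) (x : X), t (g • x) = g * t x * g⁻¹) (hsq : ∀ x, t x * t x = 1)
    (g : G) {x y : X} (hne : x ≠ y) (hc : t x * t y = t y * t x) : Even (cn g x y) := by
  classical
  have : Fact (Nat.Prime 2) := ⟨Nat.prime_two⟩
  have hy : t y • y = y := hinj (by rw [hsm]; group)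
  have hx : t y • x = x := hinj (by rw [hsm, ← hc]; group)
  have hy' : (t y)⁻¹ • y = y := by rw [inv_smul_eq_iff, hy]
  let T := {h : G // IsConj g h ∧ h • y = x}
  let F : T → T := fun h => ⟨t y * h.1 * (t y)⁻¹, h.2.1.trans (isConj_iff.2 ⟨t y, rfl⟩), by
    rw [mul_smul, mul_smul, hy', h.2.2, hx]⟩
  have hF : Function.Involutive F := by
    intro h
    apply Subtype.ext
    show t y * (t y * h.1 * (t y)⁻¹) * (t y)⁻¹ = h.1
    have e1 : (t y)⁻¹ = t y := inv_eq_of_mul_eq_one_left (hsq y)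
    calc t y * (t y * h.1 * (t y)⁻¹) * (t y)⁻¹ = (t y * t y) * h.1 * ((t y)⁻¹ * (t y)⁻¹) := by group
      _ = h.1 := by rw [e1, hsq, one_mul, mul_one]
  let σ : Equiv.Perm T := hF.toPerm
  have hσ : σ ^ 2 ^ 1 = 1 := by
    ext h
    rw [pow_one, pow_two, Equiv.Perm.mul_apply]
    exact congrArg _ (hF h)
  rw [even_iff_two_dvd]
  by_contra hcon
  have hcard : cn g x y = Fintype.card T := by
    rw [cn, Nat.card_eq_fintype_card]
  rw [hcard] at hcon
  obtain ⟨h, hh⟩ := Equiv.Perm.exists_fixed_point_of_prime hcon hσ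
  have h1 : t y * h.1 * (t y)⁻¹ = h.1 := congrArg Subtype.val hh
  have h2 : t y * h.1 = h.1 * t y := by
    calc t y * h.1 = t y * h.1 * (t y)⁻¹ * t y := by group
      _ = h.1 * t y := by rw [h1]
  have h3 : h.1 • y = y := hinj (by
    rw [hsm, ← h2]
    group)
  exact hne (h.2.2.symm.trans h3)

section rank3

variable {G : Type u} {X : Type v} [Group G] [MulAction G X]

theorem com_trans (R : Rank3 G X) {x y x' y' : X} (h1 : x ≠ y) (h2 : R.Com x y) (h3 : x' ≠ y') (h4 : R.Com x' y') :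
    ∃ g : G, g • x = x' ∧ g • y = y' := by
  have key : ∀ x y : X, x ≠ y → R.Com x y → ∃ g : G, g • R.x0 = x ∧ g • R.c = y := by
    intro x y hne hc
    obtain ⟨g, hg⟩ := R.trans x
    have h5 : R.Com R.x0 (g⁻¹ • y) := by
      rw [← R.com_smul g, smul_inv_smul, hg]
      exact hc
    rcases R.com_x0_iff.1 h5 with h6 | ⟨h, h6, h7⟩
    · exact absurd (by rw [← hg, ← h6, smul_inv_smul]) hne
    · exact ⟨g * h, by rw [mul_smul, h6, hg], by rw [mul_smul, h7, smul_inv_smul]⟩
  obtain ⟨g, hg1, hg2⟩ := key x y h1 h2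
  obtain ⟨g', hg1', hg2'⟩ := key x' y' h3 h4
  exact ⟨g' * g⁻¹, by rw [mul_smul, ← hg1, inv_smul_smul, hg1'], by rw [mul_smul, ← hg2, inv_smul_smul, hg2']⟩

theorem ncom_trans (R : Rank3 G X) {x y x' y' : X} (h2 : ¬ R.Com x y) (h4 : ¬ R.Com x' y') :
    ∃ g : G, g • x = x' ∧ g • y = y' := by
  have key : ∀ x y : X, ¬ R.Com x y → ∃ g : G, g • R.x0 = x ∧ g • R.b = y := by
    intro x y hc
    obtain ⟨g, hg⟩ := R.trans x
    have h5 : ¬ R.Com R.x0 (g⁻¹ • y) := by
      rw [← R.com_smul g, smul_inv_smul, hg]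
      exact hc
    obtain ⟨h, h6, h7⟩ := R.not_com_x0_iff.1 h5
    exact ⟨g * h, by rw [mul_smul, h6, hg], by rw [mul_smul, h7, smul_inv_smul]⟩
  obtain ⟨g, hg1, hg2⟩ := key x y h2
  obtain ⟨g', hg1', hg2'⟩ := key x' y' h4
  exact ⟨g' * g⁻¹, by rw [mul_smul, ← hg1, inv_smul_smul, hg1'], by rw [mul_smul, ← hg2, inv_smul_smul, hg2']⟩

/-- The graph of the noncommuting pairs. -/
theorem r3_of (R : Rank3 G X) {k l : ℕ} (hk : ∀ x, Nat.card {y // ¬ R.Com x y} = k) (hk0 : 0 < k) (hl0 : 0 < l)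
    (hn : Nat.card X = 1 + k + l) : R3 G X (fun x y => ¬ R.Com x y) k l := by
  refine ⟨⟨fun x y => ?_⟩, fun x y h h' => h (R.com_symm h'), fun x h => h (R.com_self x), fun g x y h h' => ?_,
    fun x y x' y' h1 h2 => ncom_trans R h1 h2, fun x y x' y' h1 h2 h3 h4 => ?_, hk, hk0, hl0, hn⟩
  · obtain ⟨g, hg⟩ := R.trans x
    obtain ⟨g', hg'⟩ := R.trans y
    exact ⟨g' * g⁻¹, by rw [mul_smul, ← hg, inv_smul_smul, hg']⟩
  · rw [R.com_smul] at h'
    exact h h'
  · rw [not_not] at h2 h4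
    exact com_trans R h1 h2 h3 h4

end rank3

/-! ### the numbers -/

theorem isT7 : IsT7 (R08.FiTwentyThree.D : Set Fi23) := H816.Quasi.isT7_of H830.Con22.isT6

section numbers

variable {X : Type v} [MulAction Fi23 X] (R : Rank3 Fi23 X) (hR : Set.range R.t = R08.FiTwentyThree.D)
include hR

theorem card_X : Nat.card X = 31671 := by
  rw [← R.card_range, hR, Nat.card_coe_set_eq]
  exact isT7.1

theorem finite_X : Finite X := Nat.finite_of_card_ne_zero (by rw [card_X R hR]; norm_num)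

theorem ncard_com (x : X) : {y : X | R.Com x y}.ncard = 3511 := by
  have h1 := (isT7.2.1 (R.t x) (by rw [← hR]; exact ⟨x, rfl⟩)).1
  have h2 : R.t '' {y : X | R.Com x y} = insert (R.t x) (Loc R08.FiTwentyThree.D (R.t x)) := by
    ext z
    constructor
    · rintro ⟨y, hy, rfl⟩
      by_cases hxy : y = x
      · left
        rw [hxy]
      · right
        exact ⟨by rw [← hR]; exact ⟨y, rfl⟩, fun h => hxy (R.t_injective h), hy⟩
    · rintro (rfl | ⟨hz, -, hz'⟩)
      · exact ⟨x, R.com_self x, rfl⟩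
      · rw [← hR] at hz
        obtain ⟨y, rfl⟩ := hz
        exact ⟨y, hz', rfl⟩
  have hfin : (Loc (R08.FiTwentyThree.D : Set Fi23) (R.t x)).Finite := Set.finite_of_ncard_pos (by rw [h1]; norm_num)
  rw [← Set.ncard_image_of_injective _ R.t_injective, h2, Set.ncard_insert_of_notMem (fun h => h.2.1 rfl) hfin, h1]

theorem ncard_both {x y : X} (h : ¬ R.Com x y) : ({z : X | R.Com x z} ∩ {z : X | R.Com y z}).ncard = 351 := by
  have h1 := isT7.2.2 (R.t x) (by rw [← hR]; exact ⟨x, rfl⟩) (R.t y) (by rw [← hR]; exact ⟨y, rfl⟩) h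
  rw [← h1, ← Set.ncard_image_of_injective _ R.t_injective]
  congr 1
  ext z
  constructor
  · rintro ⟨w, ⟨hw1, hw2⟩, rfl⟩
    exact ⟨by rw [← hR]; exact ⟨w, rfl⟩, hw1, hw2⟩
  · rintro ⟨hz, hz1, hz2⟩
    rw [← hR] at hz
    obtain ⟨w, rfl⟩ := hz
    exact ⟨w, ⟨hz1, hz2⟩, rfl⟩

theorem card_ncom (x : X) : Nat.card {y // ¬ R.Com x y} = 28160 := by
  have := finite_X R hR
  have h1 := Set.ncard_add_ncard_compl {y : X | R.Com x y}
  rw [ncard_com R hR, card_X R hR] at h1
  have h2 : Nat.card {y // ¬ R.Com x y} = ({y : X | R.Com x y}ᶜ).ncard := by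
    rw [← Nat.card_coe_set_eq]
    rfl
  rw [h2]
  omega

theorem card_a {x y : X} (h : ¬ R.Com x y) : Nat.card {z // ¬ R.Com x z ∧ ¬ R.Com z y} = 25000 := by
  have := finite_X R hR
  have h1 := Set.ncard_add_ncard_compl ({z : X | R.Com x z} ∪ {z : X | R.Com y z})
  have h2 := Set.ncard_union_add_ncard_inter {z : X | R.Com x z} {z : X | R.Com y z}
  rw [ncard_both R hR h, ncard_com R hR, ncard_com R hR] at h2
  rw [card_X R hR] at h1
  have h3 : Nat.card {z // ¬ R.Com x z ∧ ¬ R.Com z y} = (({z : X | R.Com x z} ∪ {z : X | R.Com y z})ᶜ).ncard := by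
    rw [← Nat.card_coe_set_eq]
    refine Nat.card_congr (Equiv.subtypeEquivRight fun z => ?_)
    constructor
    · rintro ⟨h4, h5⟩ (h6 | h6)
      · exact h4 h6
      · exact h5 (R.com_symm h6)
    · intro h4
      exact ⟨fun h5 => h4 (Or.inl h5), fun h5 => h4 (Or.inr (R.com_symm h5))⟩
  rw [h3]
  omega

theorem r3 : R3 Fi23 X (fun x y => ¬ R.Com x y) 28160 3510 :=
  r3_of R (card_ncom R hR) (by norm_num) (by norm_num) (card_X R hR)

end numbers

/-- Every automorphism of `Fi₂₃` is inner. -/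
theorem inner {S : Type*} [Group S] (h : Spor.IsoFi23 S) (α : S ≃* S) : ∃ s : S, ∀ x : S, α x = s * x * s⁻¹ := by
  obtain ⟨f⟩ := h
  obtain ⟨g, hg⟩ := KFacts.FiTTh.Has.inn ((f.symm.trans α).trans f)
  refine ⟨f.symm g, fun x => ?_⟩
  apply f.injective
  have h1 := DFunLike.congr_fun hg (f x)
  have h2 : ((f.symm.trans α).trans f) (f x) = f (α x) := by
    show f (α (f.symm (f x))) = _
    rw [MulEquiv.symm_apply_apply]
  rw [← h2, h1, map_mul, map_mul, map_inv, MulEquiv.apply_symm_apply]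
  rfl

/-- **Row `Fi₂₃`.** -/
theorem evenB_fi23 {S : Type u} [Group S] (h : Spor.IsoFi23 S) : EvenB S := by
  classical
  refine evenB_of_inner (inner h) fun G _ _ e κ hκ M hM => ?_
  obtain ⟨f'⟩ := h
  obtain ⟨f, -⟩ : ∃ f : Fi23 ≃* G, f = f'.symm.trans e := ⟨_, rfl⟩
  obtain ⟨R, -, -, hR⟩ := R08.FiTwentyThree.exists_rank3
  have h0 := r3 R hR
  have := finite_X R hR
  have := Fintype.ofFinite (Fi23 ⧸ Fischer.Fi23Class.K)
  letI := MulAction.compHom (Fi23 ⧸ Fischer.Fi23Class.K) f.symm.toMonoidHom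
  have h1 : R3 G (Fi23 ⧸ Fischer.Fi23Class.K) (fun x y => ¬ R.Com x y) 28160 3510 := R3.comp h0 f
  obtain ⟨a, b, hab⟩ := h1.exists_params
  have hp := h1.params_eq hab
  have ha : a = 25000 := by
    have h2 := hab R.x0 R.b
    rw [sum_mul] at h2
    unfold dia adj at h2
    have h3 : R.x0 ≠ R.b := fun h => R.b_ne_x0 h.symm
    have h4 : com (fun x y => ¬ R.Com x y) R.x0 R.b = 25000 := card_a R hR R.not_com_x0_b
    rw [if_neg h3, if_pos R.not_com_x0_b, h4] at h2
    have h5 : ((25000 : ℕ) : ℂ) = (a : ℂ) := by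
      rw [h2]
      ring
    exact_mod_cast h5.symm
  subst ha
  have hb : b = 25344 := by omega
  subst hb
  obtain ⟨χ₁, χ₂, f1, f2, D, hf1, hf2, hval, hsum, hprod, hD, -⟩ := frame_ab h1 hab
  have hD' : D = 129600 := by
    have : (D : ℤ) = 129600 := by rw [hD]; norm_num
    exact_mod_cast this
  subst hD'
  have hprod' : f1 * f2 = 24154416 := by
    have h2 : f1 * f2 * 129600 = 24154416 * 129600 := by rw [hprod]
    exact Nat.eq_of_mul_eq_mul_right (by norm_num) h2
  have hne : f1 ≠ f2 := by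
    rintro rfl
    have h2 : f1 = 15835 := by omega
    subst h2
    norm_num at hprod'
  have heven : Even f1 := by
    rcases Nat.even_or_odd f1 with h2 | h2
    · exact h2
    · exfalso
      have h3 : Odd f2 := by
        rcases Nat.even_or_odd f2 with h3 | h3
        · have h4 := h2.add_even h3
          rw [hsum] at h4
          exact absurd h4 (by decide)
        · exact h3
      have h4 := h2.mul h3
      rw [hprod'] at h4
      exact absurd h4 (by decide)
  have hd1 : charDegree (χ₁ : G → ℂ) = f1 := Blocks.Basic.charDegree_of_eq hf1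
  have hd2 : charDegree (χ₂ : G → ℂ) = f2 := Blocks.Basic.charDegree_of_eq hf2
  have hπ : permC G (Fi23 ⧸ Fischer.Fi23Class.K) = 1 + (χ₁ : G → ℂ) + (χ₂ : G → ℂ) := by
    funext x
    exact hval x
  have hone := Two.inner_eq_one hπ (by rwa [hd1]) (by rwa [hd1, hd2])
  refine ⟨χ₁, ?_, by rwa [hd1], ?_, ?_⟩
  · refine Zero.mem_of_zero h1 (by decide) (by decide) (by decide) hab ?_ hM χ₁ (by rw [hone]; exact one_ne_zero)
    intro g x y hxy hc
    rw [not_not] at hc
    refine even_cn (fun x => f (R.t x)) (f.injective.comp R.t_injective) (fun g x => ?_) (fun x => ?_) g hxy ?_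
    · show f (R.t (f.symm g • x)) = _
      rw [R.map_smul, map_mul, map_mul, map_inv, f.apply_symm_apply]
    · show f (R.t x) * f (R.t x) = 1
      rw [← map_mul, R.sq', map_one]
    · show f (R.t x) * f (R.t y) = f (R.t y) * f (R.t x)
      rw [← map_mul, ← map_mul]
      exact congrArg f hc
  · intro g
    have h5 : classInner (permC G (Fi23 ⧸ Fischer.Fi23Class.K)) (Twist.pw hκ.coprime χ₁ : G → ℂ) ≠ 0 := by
      rw [classInner_pw hκ (fun s => by
        show (Nat.card (MulAction.fixedBy _ (s ^ κ)) : ℂ) = _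
        rw [fixedBy_pow hκ]
        rfl), hone]
      exact one_ne_zero
    have h6 := Two.eq_of_degree hπ (by rwa [hd1]) (by rwa [hd1, hd2]) _ (charDegree_pw hκ χ₁) h5
    rw [← Twist.pw_apply hκ.coprime χ₁ g, h6]
  · intro h2
    have h3 : charDegree (χ₁ : G → ℂ) = 1 := by
      rw [h2]
      exact Two.charDegree_one'
    rw [hd1] at h3
    rw [h3] at heven
    exact absurd heven (by decide)

theorem evenJ_fi23 {S : Type u} [Group S] (h : Spor.IsoFi23 S) : EvenJ S :=
  evenJ_of_inner (fun α => ⟨0, by simpa using inner h α⟩) (evenB_fi23 h)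

end Cfsg.Agent.H332.EB.FiTh
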