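import Cfsg.Agent.H997.OutMcL
import Cfsg.Agent.H705.Imc.McL

/-!
# The automorphisms of `McL` and the 275 points (helper332)

* `exists_conj` : every automorphism of `McL` is conjugation by an isometry of the Leech lattice preserving the triangle;
* `haut` : the automorphisms permute the stabilizers of the 275 points.
* `hinj` : different points have different stabilizers.
-/

set_option autoImplicit false
set_option linter.style.haveILetI false

namespace Cfsg.Agent.H332.EB.McLAut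

open Cfsg Cfsg.Spor Subgroup MulAction
open Cfsg.Agent.H997.OutMcL
open Cfsg.Agent.SporadicRecognition.RankThreeOf (act)
open Cfsg.Agent.SporadicRecognition.HSRank (K)
open Cfsg.Agent.H705.Imc.McL (XS xs_inv)
open Cfsg.Agent.SporadicRecognition.McLAssemble (norm_U norm_negV norm_sub)

/-- the swap is an outer automorphism -/
theorem swap_outer {f : Equiv.Perm leechLattice} (hf : f ∈ Co0) (hV : f leechV = leechV) (hU : f leechU = W)
    (hW : f W = leechU) (hn : f ∈ Subgroup.normalizer (McL : Set (Equiv.Perm leechLattice))) :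
    (Subgroup.normalizerMonoidHom McL ⟨f, hn⟩ : MulAut McL) ∉ (MulAut.conj : McL →* MulAut McL).range := by
  obtain ⟨hfin, hsimple, hcard, ⟨L⟩⟩ := TypeM.FactsMcL.exists_mt_mcl
  rintro ⟨k, hk'⟩
  have hk : (Subgroup.normalizerMonoidHom McL ⟨f, hn⟩ : MulAut McL) = MulAut.conj k := hk'.symm
  have hkm := mem_McL.1 k.2
  have hcV : ((k : Equiv.Perm leechLattice)⁻¹ * f) leechV = leechV := by
    rw [Equiv.Perm.mul_apply, hV, Equiv.Perm.inv_eq_iff_eq, hkm.2.1]
  have hkW : (k : Equiv.Perm leechLattice) W = W := by rw [map_W hkm.1 hkm.2.1, hkm.2.2]; rfl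
  have hcU : ((k : Equiv.Perm leechLattice)⁻¹ * f) leechU = W := by
    rw [Equiv.Perm.mul_apply, hU, Equiv.Perm.inv_eq_iff_eq, hkW]
  have hcW : ((k : Equiv.Perm leechLattice)⁻¹ * f) W = leechU := by
    rw [Equiv.Perm.mul_apply, hW, Equiv.Perm.inv_eq_iff_eq, hkm.2.2]
  have hc0 : (k : Equiv.Perm leechLattice)⁻¹ * f ∈ Co0 := mul_mem (inv_mem hkm.1) hf
  have hcen : ∀ x : Equiv.Perm leechLattice, x ∈ McL →
      ((k : Equiv.Perm leechLattice)⁻¹ * f) * x = x * ((k : Equiv.Perm leechLattice)⁻¹ * f) := by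
    intro x hx
    have h2 : f * x * f⁻¹ = k * x * (k : Equiv.Perm leechLattice)⁻¹ :=
      congrArg (fun β : MulAut McL => ((β ⟨x, hx⟩ : McL) : Equiv.Perm leechLattice)) hk
    calc (k : Equiv.Perm leechLattice)⁻¹ * f * x = (k : Equiv.Perm leechLattice)⁻¹ * (f * x * f⁻¹) * f := by group
      _ = (k : Equiv.Perm leechLattice)⁻¹ * (k * x * (k : Equiv.Perm leechLattice)⁻¹) * f := by rw [h2]
      _ = x * ((k : Equiv.Perm leechLattice)⁻¹ * f) := by group
  obtain ⟨c, hc⟩ : ∃ c : Equiv.Perm leechLattice, c = (k : Equiv.Perm leechLattice)⁻¹ * f := ⟨_, rfl⟩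
  rw [← hc] at hcV hcU hcW hc0 hcen
  have hcc : c * c ∈ McL := mem_McL.2 ⟨mul_mem hc0 hc0, by rw [Equiv.Perm.mul_apply, hcV, hcV],
    by rw [Equiv.Perm.mul_apply, hcU, hcW]⟩
  have hcc1 : c * c = 1 := by
    have hz : (⟨c * c, hcc⟩ : McL) ∈ Subgroup.center McL := by
      rw [Subgroup.mem_center_iff]
      intro x
      apply Subtype.ext
      show (x : Equiv.Perm leechLattice) * (c * c) = c * c * x
      rw [← mul_assoc, ← hcen x x.2, mul_assoc, ← hcen x x.2, mul_assoc]
    have hzb : Subgroup.center McL = ⊥ := by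
      rcases IsSimpleGroup.eq_bot_or_eq_top_of_normal (Subgroup.center McL) inferInstance with h | h
      · exact h
      · exfalso
        have hcomm : ∀ a b : McL, a * b = b * a := fun a b =>
          (Subgroup.mem_center_iff.1 (by rw [h]; trivial : b ∈ Subgroup.center McL) a)
        letI : CommGroup McL := { (inferInstance : Group McL) with mul_comm := hcomm }
        have hp := IsSimpleGroup.prime_card (α := McL)
        rw [hcard] at hp
        revert hp
        norm_num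
    rw [hzb, Subgroup.mem_bot] at hz
    exact congrArg Subtype.val hz
  refine no_central (c := ⟨⟨c, hc0⟩, hcV⟩) ?_ ?_ hcen
  · intro h
    have h1 : c = 1 := congrArg (fun z : Cfsg.Agent.SporRec.Co3.Chain.G3 => ((z : Co0) : Equiv.Perm leechLattice)) h
    rw [h1] at hcU
    exact W_ne hcU.symm
  · apply Subtype.ext
    apply Subtype.ext
    exact hcc1

/-- every automorphism is conjugation by an isometry preserving the triangle -/
theorem exists_conj (α : McL ≃* McL) : ∃ z : Equiv.Perm leechLattice, z ∈ Co0 ∧ z leechV = leechV ∧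
    (z leechU = leechU ∨ (z leechU = W ∧ z W = leechU)) ∧
    ∀ s : McL, ((α s : McL) : Equiv.Perm leechLattice) = z * s * z⁻¹ := by
  obtain ⟨hfin, hsimple, hcard, ⟨L⟩⟩ := TypeM.FactsMcL.exists_mt_mcl
  obtain ⟨f, hf, hV, hU, hW⟩ := Cfsg.Agent.H997.OutMcL.exists_swap
  have hn := mem_normalizer hf hV hU hW
  have hG : TypeM.FactsAut.Gen L := TypeM.FactsAut.gen L (Or.inl ⟨rfl, hcard⟩)
  by_cases hα : (α : MulAut McL) ∈ (MulAut.conj : McL →* MulAut McL).range
  · obtain ⟨g, hg⟩ := hα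
    obtain ⟨h1, h2, h3⟩ := mem_McL.1 g.2
    refine ⟨g, h1, h2, Or.inl h3, fun s => ?_⟩
    rw [← hg]
    rfl
  · obtain ⟨β, hβ⟩ : ∃ β : MulAut McL, β = Subgroup.normalizerMonoidHom McL ⟨f, hn⟩ := ⟨_, rfl⟩
    have hβn := swap_outer hf hV hU hW hn
    rw [← hβ] at hβn
    obtain ⟨g, hg⟩ := TypeM.OuterInst.mul_mem_range L (Or.inl rfl) hG hα hβn
    obtain ⟨h1, h2, h3⟩ := mem_McL.1 g.2
    have hgW : (g : Equiv.Perm leechLattice) W = W := by rw [map_W h1 h2, h3]; rfl
    refine ⟨g * f⁻¹, mul_mem h1 (inv_mem hf), ?_, Or.inr ⟨?_, ?_⟩, fun s => ?_⟩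
    · have h4 : f⁻¹ leechV = leechV := by rw [Equiv.Perm.inv_eq_iff_eq, hV]
      rw [Equiv.Perm.mul_apply, h4, h2]
    · have h4 : f⁻¹ leechU = W := by rw [Equiv.Perm.inv_eq_iff_eq, hW]
      rw [Equiv.Perm.mul_apply, h4, hgW]
    · have h4 : f⁻¹ W = leechU := by rw [Equiv.Perm.inv_eq_iff_eq, hU]
      rw [Equiv.Perm.mul_apply, h4, h3]
    · obtain ⟨r, hr⟩ : ∃ r : McL, β r = s := ⟨β.symm s, β.apply_symm_apply s⟩
      have h5 : (s : Equiv.Perm leechLattice) = f * r * f⁻¹ := by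
        rw [← hr, hβ]
        rfl
      have h6 : α s = g * r * g⁻¹ := by
        rw [← hr]
        exact (DFunLike.congr_fun hg r).symm
      rw [h6, h5]
      show (g : Equiv.Perm leechLattice) * r * (g : Equiv.Perm leechLattice)⁻¹ = _
      group

/-! ### the points -/

/-- the group -/
abbrev K0 : Subgroup ↥Co0 := K (-Spor.leechV) Spor.leechU

/-- the points -/
abbrev X0 : Set ↥leechLattice := XS (-Spor.leechV) Spor.leechU

theorem dot_sub {u x : ↥leechLattice} (hu : sqNorm (u : GolayPt → ℤ) = 48) (hx : sqNorm (x : GolayPt → ℤ) = 32)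
    (h : sqNorm ((u - x : ↥leechLattice) : GolayPt → ℤ) = 32) : dotInt (u : GolayPt → ℤ) (x : GolayPt → ℤ) = 24 := by
  rw [AddSubgroup.coe_sub, Cfsg.Agent.Leech.Basic.sqNorm_sub] at h
  linarith

theorem coe_mclEquiv (s : McL) (x : ↥leechLattice) :
    (H713.Spor.McL.mclEquiv s : ↥K0) • x = (s : Equiv.Perm leechLattice) x := rfl

theorem map_stab {G X : Type*} [Group G] [MulAction G X] (α : G ≃* G) {x y : X}
    (h : ∀ k : G, k • x = x ↔ α k • y = y) : (stabilizer G x).map α.toMonoidHom = stabilizer G y := by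
  ext k
  constructor
  · rintro ⟨k', hk', rfl⟩
    exact (h k').1 hk'
  · intro hk
    refine ⟨α.symm k, (h _).2 ?_, α.apply_symm_apply k⟩
    rw [α.apply_symm_apply]
    exact hk

theorem smul_sub_co0 (g : ↥Co0) (v w : leechLattice) : g • (v - w) = g • v - g • w := by
  rw [sub_eq_add_neg, Cfsg.Agent.Leech.Co0Elts.smul_add_co0, Cfsg.Agent.Leech.Co0Elts.smul_neg_co0,
    ← sub_eq_add_neg]

/-- The automorphisms permute the point stabilizers. -/
theorem haut (α : ↥K0 ≃* ↥K0) (x : ↥X0) :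
    letI := act K0 X0 (xs_inv _ _)
    ∃ y : ↥X0, (stabilizer ↥K0 x).map α.toMonoidHom = stabilizer ↥K0 y := by
  letI := act K0 X0 (xs_inv _ _)
  obtain ⟨z, hz, hV, hU, hs⟩ := exists_conj ((H713.Spor.McL.mclEquiv.trans α).trans H713.Spor.McL.mclEquiv.symm)
  obtain ⟨g, hg⟩ : ∃ g : ↥Co0, g = ⟨z, hz⟩ := ⟨_, rfl⟩
  have hgz : ∀ v : ↥leechLattice, g • v = z v := fun v => by rw [hg]; rfl
  have hα : ∀ k : ↥K0, ((α k : ↥K0) : ↥Co0) = g * k * g⁻¹ := by
    intro k
    apply Subtype.ext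
    obtain ⟨s, rfl⟩ := H713.Spor.McL.mclEquiv.surjective k
    have h1 := hs s
    have h2 : H713.Spor.McL.mclEquiv (((H713.Spor.McL.mclEquiv.trans α).trans H713.Spor.McL.mclEquiv.symm) s) =
        α (H713.Spor.McL.mclEquiv s) := by
      show H713.Spor.McL.mclEquiv (H713.Spor.McL.mclEquiv.symm (α (H713.Spor.McL.mclEquiv s))) = _
      rw [MulEquiv.apply_symm_apply]
    rw [← h2, hg]
    exact h1
  have hfix : ∀ k : ↥K0, (k : ↥Co0) • (-Spor.leechV) = -Spor.leechV := fun k => k.2.1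
  have hu : g • (-Spor.leechV) = -Spor.leechV := by
    rw [Cfsg.Agent.Leech.Co0Elts.smul_neg_co0, hgz, hV]
  rcases hU with hU | ⟨hU, hW⟩
  · have hgK : g ∈ K0 := ⟨hu, by
      show g • Spor.leechU = Spor.leechU
      rw [hgz, hU]⟩
    refine ⟨⟨g • (x : ↥leechLattice), xs_inv _ _ g hgK x x.2⟩, map_stab α fun k => ?_⟩
    refine Iff.trans Subtype.ext_iff (Iff.trans ?_ Subtype.ext_iff.symm)
    show (k : ↥Co0) • (x : ↥leechLattice) = x ↔
      ((α k : ↥K0) : ↥Co0) • (g • (x : ↥leechLattice)) = g • (x : ↥leechLattice)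
    rw [hα, mul_smul, mul_smul, inv_smul_smul, smul_left_cancel_iff]
  · have hgU : g • Spor.leechU = W := by rw [hgz, hU]
    have hgW : g • W = Spor.leechU := by rw [hgz, hW]
    obtain ⟨hx1, hx2, hx3⟩ := x.2
    have hux := dot_sub norm_negV hx1 hx2
    have hmem : -Spor.leechV - g • (x : ↥leechLattice) ∈ X0 := by
      have h1 : -Spor.leechV - g • (x : ↥leechLattice) = g • (-Spor.leechV - (x : ↥leechLattice)) := by
        rw [smul_sub_co0, hu]
      refine ⟨?_, ?_, ?_⟩
      · rw [h1, Cfsg.Agent.Leech.Co0Elts.sqNorm_smul]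
        exact hx2
      · have h2 : (((-Spor.leechV : ↥leechLattice) : GolayPt → ℤ) -
            ((-Spor.leechV - g • (x : ↥leechLattice) : ↥leechLattice) : GolayPt → ℤ)) =
            ((g • (x : ↥leechLattice) : ↥leechLattice) : GolayPt → ℤ) := by
          rw [AddSubgroup.coe_sub]
          abel
        rw [h2, Cfsg.Agent.Leech.Co0Elts.sqNorm_smul]
        exact hx1
      · rw [h1, ← hgW, Cfsg.Agent.Leech.Co0Elts.dotInt_smul]
        have hUu := dot_sub norm_negV norm_U norm_sub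
        have hWe : ((W : ↥leechLattice) : GolayPt → ℤ) =
            ((-Spor.leechV : ↥leechLattice) : GolayPt → ℤ) - ((Spor.leechU : ↥leechLattice) : GolayPt → ℤ) := rfl
        rw [hWe, AddSubgroup.coe_sub, Cfsg.Agent.Leech.Basic.dotInt_sub_left, Cfsg.Agent.Leech.Basic.dotInt_sub_right,
          Cfsg.Agent.Leech.Basic.dotInt_sub_right, Cfsg.Agent.Leech.Basic.dotInt_self, norm_negV, hux,
          Cfsg.Agent.Leech.Basic.dotInt_comm, hUu, hx3]
        norm_num
    refine ⟨⟨_, hmem⟩, map_stab α fun k => ?_⟩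
    refine Iff.trans Subtype.ext_iff (Iff.trans ?_ Subtype.ext_iff.symm)
    show (k : ↥Co0) • (x : ↥leechLattice) = x ↔
      ((α k : ↥K0) : ↥Co0) • (-Spor.leechV - g • (x : ↥leechLattice)) = -Spor.leechV - g • (x : ↥leechLattice)
    rw [smul_sub_co0, hfix, sub_right_inj, hα, mul_smul, mul_smul, inv_smul_smul, smul_left_cancel_iff]

end Cfsg.Agent.H332.EB.McLAut
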