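import Mathlib.GroupTheory.Perm.Centralizer
import Mathlib.GroupTheory.SpecificGroups.Alternating
import Cfsg.Prelude.Def_SporadicB

/-!
# The 2-part of the centralizers of the elements of odd order: involution centralizer `2.A₈` (helper332)

`not_dvd` : if all involutions of `G` are conjugate with centralizer a double cover of `A₈`, then `2 ^ 5` does not divide
the order of the centralizer of an element `y ≠ 1` of odd order.
-/

set_option autoImplicit false

namespace Cfsg.Agent.H332.EB.Low

open Cfsg Subgroup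
open scoped Nat

/-- The centralizers in `S₈`. -/
theorem perm8 (σ : Equiv.Perm (Fin 8)) (ho : Odd (orderOf σ)) (h1 : σ ≠ 1) :
    ¬ 2 ^ 4 ∣ Nat.card (centralizer ({σ} : Set (Equiv.Perm (Fin 8)))) := by
  have hpos := orderOf_pos σ
  obtain ⟨p, hp, hpd⟩ := Nat.exists_prime_and_dvd (n := orderOf σ) (by
    rwa [Ne, orderOf_eq_one_iff])
  obtain ⟨m, hm⟩ := hpd
  have hm0 : m ≠ 0 := by
    rintro rfl
    omega
  obtain ⟨τ, hτ⟩ : ∃ τ, τ = σ ^ m := ⟨_, rfl⟩
  have hoτ : orderOf τ = p := by
    rw [hτ, orderOf_pow_of_dvd hm0 (Dvd.intro_left p hm.symm), hm, Nat.mul_div_cancel _ (Nat.pos_of_ne_zero hm0)]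
  have hp2 : Odd p := by
    rw [hm] at ho
    exact (Nat.odd_mul.1 ho).1
  intro hd
  have hle : centralizer ({σ} : Set (Equiv.Perm (Fin 8))) ≤ centralizer ({τ} : Set (Equiv.Perm (Fin 8))) := by
    intro x hx
    rw [mem_centralizer_singleton_iff] at hx ⊢
    rw [hτ]
    exact (Commute.pow_right hx m).eq
  have hd' : 2 ^ 4 ∣ Nat.card (centralizer ({τ} : Set (Equiv.Perm (Fin 8)))) := hd.trans (card_dvd_of_le hle)
  obtain ⟨n, hn⟩ := Equiv.Perm.cycleType_prime_order (σ := τ) (by rwa [hoτ])
  rw [hoτ] at hn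
  have hsum : (n + 1) * p ≤ 8 := by
    have h2 : τ.cycleType.sum = (n + 1) * p := by
      rw [hn, Multiset.sum_replicate, smul_eq_mul]
    rw [← h2, Equiv.Perm.sum_cycleType]
    exact (Finset.card_le_univ _).trans (by simp)
  rw [Equiv.Perm.nat_card_centralizer, hn] at hd'
  have hp3 : 3 ≤ p := by
    rcases hp2 with ⟨q, hq⟩
    have := hp.two_le
    omega
  have hn1 : n ≤ 1 := by
    by_contra hcon
    push Not at hcon
    nlinarith
  have hp7 : p ≤ 8 := by
    nlinarith
  have hf : ∀ n p : ℕ, ((Multiset.replicate (n + 1) p).toFinset) = {p} := by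
    intro n p
    rw [Multiset.toFinset_replicate, if_neg (by omega)]
  rw [hf, Finset.prod_singleton, Multiset.count_replicate_self, Multiset.sum_replicate, Multiset.prod_replicate,
    Fintype.card_fin, smul_eq_mul] at hd'
  interval_cases n
  · interval_cases p
    · revert hd'; decide
    · exact absurd hp2 (by decide)
    · revert hd'; decide
    · exact absurd hp2 (by decide)
    · revert hd'; decide
    · exact absurd hp2 (by decide)
  · have hp4 : p ≤ 4 := by omega
    interval_cases p
    · revert hd'; decide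
    · exact absurd hp2 (by decide)

/-- The subgroup `Q` of a double cover of `A₈` centralizing an element of odd order. -/
theorem cover8 {C : Type*} [Group C] [Finite C] (h : IsNonsplitDoubleCover C ↥(alternatingGroup (Fin 8))) (y : C)
    (ho : Odd (orderOf y)) (h1 : y ≠ 1) (Q : Subgroup C) (hQ : ∀ q ∈ Q, q * y = y * q) : ¬ 2 ^ 5 ∣ Nat.card Q := by
  obtain ⟨hc, ⟨e⟩, -⟩ := h
  intro hd
  let f : C →* Equiv.Perm (Fin 8) :=
    (alternatingGroup (Fin 8)).subtype.comp (e.toMonoidHom.comp (QuotientGroup.mk' (center C)))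
  have hker : ∀ x : C, f x = 1 ↔ x ∈ center C := by
    intro x
    show ((e (QuotientGroup.mk' (center C) x) : alternatingGroup (Fin 8)) : Equiv.Perm (Fin 8)) = 1 ↔ _
    rw [OneMemClass.coe_eq_one, MulEquiv.map_eq_one_iff, QuotientGroup.mk'_apply, QuotientGroup.eq_one_iff]
  have hfo : Odd (orderOf (f y)) := by
    obtain ⟨c, hc'⟩ := orderOf_map_dvd f y
    rw [hc'] at ho
    exact (Nat.odd_mul.1 ho).1
  have hf1 : f y ≠ 1 := by
    intro h0
    rw [hker] at h0
    have h2 : orderOf (⟨y, h0⟩ : center C) ∣ Nat.card (center C) := orderOf_dvd_natCard _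
    rw [Subgroup.orderOf_mk, hc] at h2
    rcases (Nat.dvd_prime Nat.prime_two).1 h2 with h3 | h3
    · exact h1 (orderOf_eq_one_iff.1 h3)
    · rw [h3] at ho
      exact absurd ho (by decide)
  -- the image
  let g : Q →* Equiv.Perm (Fin 8) := f.comp Q.subtype
  have hle : g.range ≤ centralizer ({f y} : Set (Equiv.Perm (Fin 8))) := by
    rintro _ ⟨q, rfl⟩
    rw [mem_centralizer_singleton_iff]
    show f q * f y = f y * f q
    rw [← map_mul, ← map_mul, hQ q q.2]
  have hk : Nat.card g.ker ∣ 2 := by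
    rw [← hc]
    have hmem : ∀ x : g.ker, ((x : Q) : C) ∈ center C := by
      intro x
      rw [← hker]
      exact x.2
    let j : g.ker →* center C :=
      { toFun := fun x => ⟨((x : Q) : C), hmem x⟩
        map_one' := rfl
        map_mul' := fun _ _ => rfl }
    refine card_dvd_of_injective j ?_
    intro a b hab
    exact Subtype.ext (Subtype.ext (congrArg (fun z : center C => (z : C)) hab))
  have hmul : Nat.card Q = Nat.card g.ker * Nat.card g.range := by
    rw [← card_mul_index g.ker, index_ker]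
  have h5 : 2 ^ 5 ∣ 2 * Nat.card g.range := by
    rw [hmul] at hd
    exact hd.trans (mul_dvd_mul_right hk _)
  have h6 : 2 ^ 4 ∣ Nat.card g.range := by
    rw [pow_succ, mul_comm] at h5
    exact (Nat.mul_dvd_mul_iff_left (by norm_num)).1 h5
  exact perm8 (f y) hfo hf1 (h6.trans (card_dvd_of_le hle))

/-- **The 2-part of the centralizer of an element of odd order.** -/
theorem not_dvd {G : Type*} [Group G] [Finite G] (hcl : ∀ x y : G, orderOf x = 2 → orderOf y = 2 → IsConj x y)
    {t : G} (ht : orderOf t = 2)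
    (hC : IsNonsplitDoubleCover ↥(centralizer ({t} : Set G)) ↥(alternatingGroup (Fin 8)))
    (y : G) (ho : Odd (orderOf y)) (h1 : y ≠ 1) : ¬ 2 ^ 5 ∣ Nat.card (centralizer ({y} : Set G)) := by
  have : Fact (Nat.Prime 2) := ⟨Nat.prime_two⟩
  intro hd
  obtain ⟨Q, hQ⟩ := Sylow.exists_subgroup_card_pow_prime 2 hd
  have hQp : IsPGroup 2 Q := IsPGroup.iff_card.2 ⟨5, hQ⟩
  have hnt : Nontrivial Q := by
    rw [← Finite.one_lt_card_iff_nontrivial, hQ]
    norm_num
  have hZ := hQp.center_nontrivial
  have hZp : IsPGroup 2 (center Q) := hQp.to_subgroup _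
  obtain ⟨n, hn, hcard⟩ := (IsPGroup.nontrivial_iff_card hZp).1 hZ
  obtain ⟨z, hz⟩ := exists_prime_orderOf_dvd_card' (G := center Q) 2 (by
    rw [hcard]
    exact dvd_pow_self 2 (Nat.pos_iff_ne_zero.1 hn))
  -- the involution
  let z' : G := (((z : Q) : centralizer ({y} : Set G)) : G)
  have hz' : orderOf z' = 2 := by
    show orderOf ((((z : Q) : centralizer ({y} : Set G)) : G)) = 2
    rw [Subgroup.orderOf_coe, Subgroup.orderOf_coe, Subgroup.orderOf_coe, hz]
  obtain ⟨g, hg⟩ := isConj_iff.1 (hcl z' t hz' ht)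
  -- `Q` in `C(t)`
  have hzy : y * z' = z' * y := by
    have := mem_centralizer_singleton_iff.1 ((z : Q) : centralizer ({y} : Set G)).2
    exact this.symm
  have hyC : g * y * g⁻¹ ∈ centralizer ({t} : Set G) := by
    rw [mem_centralizer_singleton_iff, ← hg]
    calc g * y * g⁻¹ * (g * z' * g⁻¹) = g * (y * z') * g⁻¹ := by group
      _ = g * (z' * y) * g⁻¹ := by rw [hzy]
      _ = g * z' * g⁻¹ * (g * y * g⁻¹) := by group
  have hqC : ∀ q : Q, g * (((q : Q) : centralizer ({y} : Set G)) : G) * g⁻¹ ∈ centralizer ({t} : Set G) := by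
    intro q
    have hqz : (((q : Q) : centralizer ({y} : Set G)) : G) * z' = z' * (((q : Q) : centralizer ({y} : Set G)) : G) := by
      have h2 := Subgroup.mem_center_iff.1 z.2 q
      exact congrArg (fun w : Q => (((w : Q) : centralizer ({y} : Set G)) : G)) h2
    rw [mem_centralizer_singleton_iff, ← hg]
    calc g * (((q : Q) : centralizer ({y} : Set G)) : G) * g⁻¹ * (g * z' * g⁻¹)
        = g * ((((q : Q) : centralizer ({y} : Set G)) : G) * z') * g⁻¹ := by group
      _ = g * (z' * (((q : Q) : centralizer ({y} : Set G)) : G)) * g⁻¹ := by rw [hqz]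
      _ = g * z' * g⁻¹ * (g * (((q : Q) : centralizer ({y} : Set G)) : G) * g⁻¹) := by group
  let j : Q →* centralizer ({t} : Set G) :=
    { toFun := fun q => ⟨g * (((q : Q) : centralizer ({y} : Set G)) : G) * g⁻¹, hqC q⟩
      map_one' := by
        apply Subtype.ext
        show g * (1 : G) * g⁻¹ = 1
        group
      map_mul' := fun a b => by
        apply Subtype.ext
        show g * ((((a : Q) : centralizer ({y} : Set G)) : G) * (((b : Q) : centralizer ({y} : Set G)) : G)) * g⁻¹ =
          g * (((a : Q) : centralizer ({y} : Set G)) : G) * g⁻¹ * (g * (((b : Q) : centralizer ({y} : Set G)) : G) * g⁻¹)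
        group }
  have hj : Function.Injective j := by
    intro a b hab
    have h2 : g * (((a : Q) : centralizer ({y} : Set G)) : G) * g⁻¹ =
        g * (((b : Q) : centralizer ({y} : Set G)) : G) * g⁻¹ :=
      congrArg (fun w : centralizer ({t} : Set G) => (w : G)) hab
    exact Subtype.ext (Subtype.ext (mul_left_cancel (mul_right_cancel h2)))
  refine cover8 hC ⟨g * y * g⁻¹, hyC⟩ ?_ ?_ j.range ?_ ?_
  · rw [Subgroup.orderOf_mk]
    have h2 : orderOf (g * y * g⁻¹) = orderOf y := by
      have := orderOf_injective (MulAut.conj g).toMonoidHom (MulAut.conj g).injective y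
      exact this
    rwa [h2]
  · intro h0
    have h2 : g * y * g⁻¹ = 1 := congrArg (fun w : centralizer ({t} : Set G) => (w : G)) h0
    apply h1
    calc y = g⁻¹ * (g * y * g⁻¹) * g := by group
      _ = 1 := by rw [h2]; group
  · rintro _ ⟨q, rfl⟩
    apply Subtype.ext
    show g * (((q : Q) : centralizer ({y} : Set G)) : G) * g⁻¹ * (g * y * g⁻¹) =
      g * y * g⁻¹ * (g * (((q : Q) : centralizer ({y} : Set G)) : G) * g⁻¹)
    have h2 := mem_centralizer_singleton_iff.1 (q : centralizer ({y} : Set G)).2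
    calc g * (((q : Q) : centralizer ({y} : Set G)) : G) * g⁻¹ * (g * y * g⁻¹)
        = g * ((((q : Q) : centralizer ({y} : Set G)) : G) * y) * g⁻¹ := by group
      _ = g * (y * (((q : Q) : centralizer ({y} : Set G)) : G)) * g⁻¹ := by rw [h2]
      _ = g * y * g⁻¹ * (g * (((q : Q) : centralizer ({y} : Set G)) : G) * g⁻¹) := by group
  · have h2 : Nat.card j.range = Nat.card Q := (Nat.card_congr (MonoidHom.ofInjective hj).toEquiv).symm
    rw [h2, hQ]

end Cfsg.Agent.H332.EB.Low
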