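import Cfsg.Agent.H332.EB.McLAut
import Cfsg.Agent.H332.EB.Two
import Cfsg.Agent.H332.EB.Low
import Cfsg.Agent.H497.EB.Low
import Cfsg.Agent.S2132

/-!
# TEAM EB: the row `McL` (helper332)

The action on 275 points, with permutation character `1 + 22 + 252`; the characters of degree 22 are in the principal
2-block, since `4` divides the lengths of the classes of the elements `y ≠ 1` of odd order.
-/

set_option autoImplicit false
set_option linter.style.haveILetI false

namespace Cfsg.Agent.H332.EB.McL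

open Cfsg MulAction Cfsg.Agent.H332.EB.McLAut Cfsg.Agent.H684.EB
open Cfsg.Agent.SporadicRecognition.RankThreeOf (act)
open Cfsg.Agent.H705.Imc.McL (XS xs_inv xs_facts x1_mem)
open Cfsg.Agent.SporadicRecognition.McLAssemble (norm_U norm_negV norm_sub)
open Cfsg.Agent.H713.Spor Cfsg.Agent.H713.Spor.RankThree

universe u

/-- Different points have different stabilizers. -/
theorem hinj :
    letI := act K0 X0 (xs_inv _ _)
    Function.Injective fun x : ↥X0 => stabilizer ↥K0 x := by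
  letI := act K0 X0 (xs_inv _ _)
  intro x y hxy
  have hxy' : stabilizer ↥K0 x = stabilizer ↥K0 y := hxy
  by_contra hne
  have hne' : (y : ↥leechLattice) ≠ x := fun h => hne (Subtype.ext h.symm)
  obtain ⟨h1, -⟩ := Cfsg.Agent.S1580.result (-Spor.leechV) Spor.leechU norm_negV ⟨norm_U, norm_sub⟩
  obtain ⟨h3, h4, h5⟩ := Cfsg.Agent.S1581.result (-Spor.leechV) Spor.leechU x norm_negV ⟨norm_U, norm_sub⟩ x.2
  change X0.ncard = 275 at h1
  have hfin : X0.Finite := Set.finite_of_ncard_pos (by rw [h1]; norm_num)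
  -- a second point in the orbit of `y`
  have key : ∀ S : Set ↥leechLattice, (∀ z ∈ S, z ∈ X0 ∧ z ≠ x) → (∀ z ∈ S, ∀ z' ∈ S,
      dotInt ((x : ↥leechLattice) : GolayPt → ℤ) (z : GolayPt → ℤ) =
      dotInt ((x : ↥leechLattice) : GolayPt → ℤ) (z' : GolayPt → ℤ)) → (y : ↥leechLattice) ∈ S → 1 < S.ncard → False := by
    intro S hS hS' hyS hc
    obtain ⟨z, hz, hzy⟩ := Set.exists_ne_of_one_lt_ncard hc (y : ↥leechLattice)
    obtain ⟨g, hg1, hg2, hg3, hg4⟩ := h5 y y.2 z (hS z hz).1 hne' (hS z hz).2 (hS' _ hyS _ hz)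
    have hgK : g ∈ K0 := ⟨hg1, hg2⟩
    have h6 : (⟨g, hgK⟩ : ↥K0) ∈ stabilizer ↥K0 x := Subtype.ext hg3
    rw [hxy'] at h6
    have h7 : g • (y : ↥leechLattice) = y := congrArg (fun w : ↥X0 => (w : ↥leechLattice)) h6
    exact hzy (hg4.symm.trans h7)
  set S8 : Set ↥leechLattice := {y | y ∈ X0 ∧ dotInt ((x : ↥leechLattice) : GolayPt → ℤ) (y : GolayPt → ℤ) = 8} with hS8
  set S16 : Set ↥leechLattice := {y | y ∈ X0 ∧ y ≠ x ∧
    dotInt ((x : ↥leechLattice) : GolayPt → ℤ) (y : GolayPt → ℤ) = 16} with hS16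
  change S8.ncard = 112 at h3
  change S16.ncard = 162 at h4
  have hx0 : dotInt ((x : ↥leechLattice) : GolayPt → ℤ) ((x : ↥leechLattice) : GolayPt → ℤ) = 32 := by
    rw [Cfsg.Agent.Leech.Basic.dotInt_self]
    exact x.2.1
  have f8 : S8.Finite := hfin.subset fun y hy => hy.1
  have f16 : S16.Finite := hfin.subset fun y hy => hy.1
  have hd : Disjoint S8 S16 := by
    rw [Set.disjoint_left]
    rintro z hz hz'
    have e1 := hz.2
    have e2 := hz'.2.2
    omega
  have hd' : (x : ↥leechLattice) ∉ S8 ∪ S16 := by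
    rintro (hz | hz)
    · have e1 := hz.2
      omega
    · exact hz.2.1 rfl
  have hU : insert (x : ↥leechLattice) (S8 ∪ S16) = X0 := by
    apply Set.eq_of_subset_of_ncard_le _ _ hfin
    · rintro z (rfl | hz | hz)
      · exact x.2
      · exact hz.1
      · exact hz.1
    · rw [Set.ncard_insert_of_notMem hd' (f8.union f16), Set.ncard_union_eq hd f8 f16, h1, h3, h4]
  have hy' : (y : ↥leechLattice) ∈ insert (x : ↥leechLattice) (S8 ∪ S16) := by rw [hU]; exact y.2
  rcases hy' with h6 | h6 | h6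
  · exact hne' h6
  · refine key S8 (fun z hz => ⟨hz.1, ?_⟩) (fun z hz z' hz' => hz.2.trans hz'.2.symm) h6 (by rw [h3]; norm_num)
    rintro rfl
    have e1 := hz.2
    omega
  · exact key S16 (fun z hz => ⟨hz.1, hz.2.1⟩) (fun z hz z' hz' => hz.2.2.trans hz'.2.2.symm) h6
      (by rw [h4]; norm_num)

/-- The permutation character is `1 + 22 + 252`. -/
theorem chars :
    letI := act K0 X0 (xs_inv _ _)
    ∃ φ ψ : IrrCharacter ↥K0, charDegree (φ : ↥K0 → ℂ) = 22 ∧ charDegree (ψ : ↥K0 → ℂ) = 252 ∧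
      ∀ g : ↥K0, (Nat.card (fixedBy ↥X0 g) : ℂ) = 1 + (φ : ↥K0 → ℂ) g + (ψ : ↥K0 → ℂ) g := by
  classical
  obtain ⟨hs, hc⟩ := Cfsg.Agent.H713.Spor.McL.facts
  have hfin : Finite ↥K0 := Nat.finite_of_card_ne_zero (by rw [hc]; norm_num)
  have := Fintype.ofFinite ↥K0
  let actX := act K0 X0 (xs_inv _ _)
  obtain ⟨hcX, htr, hr⟩ := xs_facts
  have hfX : Finite ↥X0 := Nat.finite_of_card_ne_zero (by rw [hcX]; norm_num)
  obtain ⟨μ, hμ1, hμ⟩ := Cfsg.Agent.H713.Spor.McL.exists_22
  have hdeg := HS.degree_of_lchi hμ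
  have hμd : charDegree (μ : ↥K0 → ℂ) = 22 := by omega
  have : Nonempty ↥X0 := ⟨⟨_, x1_mem⟩⟩
  have hne := RankThree.inner_ne K0.subtype μ hμ1 hμ
    ↥X0 (fun x => x.1) (fun g x => rfl) (by
      intro x
      by_contra hcon
      push Not at hcon
      have hsub : ∀ y : ↥X0, y = x := by
        intro y
        obtain ⟨g, hg⟩ := exists_smul_eq ↥K0 x y
        rw [← hg]
        exact Subtype.ext (hcon g)
      have h6 : Nat.card ↥X0 = 1 := by
        rw [Nat.card_eq_one_iff_exists]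
        exact ⟨x, hsub⟩
      exact absurd (h6.symm.trans hcX) (by norm_num))
  obtain ⟨χ, hχ, hpc⟩ := Cfsg.Agent.H705.Imc.irr_other' (G := ↥K0) ↥X0
    hr μ hμ1 hne (by rw [hμd, hcX]; norm_num)
  have hχd : charDegree (χ : ↥K0 → ℂ) = 252 := by rw [hχ, hcX, hμd]
  refine ⟨μ, χ, hμd, hχd, fun g => ?_⟩
  exact congrFun hpc g

/-- The characters of degree 22 are in the principal block. -/
theorem mem {N : Type u} [Group N] [Fintype N] (e : ↥Spor.McL ≃* N) {M : Ideal AlgInt} (hM : IsPModular 2 M)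
    (φ : IrrCharacter N) (hd : charDegree (φ : N → ℂ) = 22) : φ ∈ principalBlock M N := by
  have : Fact (Nat.Prime 2) := ⟨Nat.prime_two⟩
  have hc : Nat.card N = 898128000 := by
    rw [← Nat.card_congr e.toEquiv]
    exact Cfsg.Agent.NotCT.Orders.mcl (K := ↥Spor.McL) ⟨MulEquiv.refl _⟩
  have : Finite ↥Spor.McL := Finite.of_equiv N e.symm.toEquiv
  obtain ⟨hcl, t, ht, hC⟩ := Cfsg.Agent.S2132.result
  refine H497.EB.mem_of_low hM φ fun y hy hy1 => ?_
  rw [hd]
  have h22 : (22 : ℕ).factorization 2 = 1 := by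
    rw [show (22 : ℕ) = 2 * 11 by norm_num, Nat.factorization_mul (by norm_num) (by norm_num), Finsupp.add_apply,
      Nat.Prime.factorization_self Nat.prime_two, Nat.factorization_eq_zero_of_not_dvd (by norm_num)]
  rw [h22]
  have ho : Odd (orderOf y) := by
    rw [← Nat.not_even_iff_odd, even_iff_two_dvd]
    exact hy
  -- the centralizer in `McL`
  have h1 : ¬ 2 ^ 5 ∣ Nat.card (Subgroup.centralizer ({y} : Set N)) := by
    have h2 := Low.not_dvd hcl ht hC (e.symm y) (by rwa [MulEquiv.orderOf_eq]) (by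
      intro h0
      exact hy1 ((MulEquiv.map_eq_one_iff e.symm).1 h0))
    have h3 : Nat.card (Subgroup.centralizer ({y} : Set N)) =
        Nat.card (Subgroup.centralizer ({e.symm y} : Set ↥Spor.McL)) := by
      refine Nat.card_congr ⟨fun z => ⟨e.symm z, ?_⟩, fun z => ⟨e z, ?_⟩, fun z => ?_, fun z => ?_⟩
      · have := Subgroup.mem_centralizer_singleton_iff.1 z.2
        rw [Subgroup.mem_centralizer_singleton_iff, ← map_mul, ← map_mul, this]
      · have := Subgroup.mem_centralizer_singleton_iff.1 z.2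
        rw [Subgroup.mem_centralizer_singleton_iff]
        apply e.symm.injective
        rw [map_mul, map_mul, e.symm_apply_apply, this]
      · exact Subtype.ext (e.apply_symm_apply _)
      · exact Subtype.ext (e.symm_apply_apply _)
    rwa [h3]
  -- the index
  have h4 := Subgroup.card_mul_index (Subgroup.centralizer ({y} : Set N))
  rw [hc] at h4
  by_contra hcon
  push Not at hcon
  have hi0 : (Subgroup.centralizer ({y} : Set N)).index ≠ 0 := Subgroup.index_ne_zero_of_finite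
  have hc0 : Nat.card (Subgroup.centralizer ({y} : Set N)) ≠ 0 := Nat.card_pos.ne'
  have h5 : (Nat.card (Subgroup.centralizer ({y} : Set N)) *
      (Subgroup.centralizer ({y} : Set N)).index).factorization 2 = (898128000 : ℕ).factorization 2 := by
    rw [h4]
  rw [Nat.factorization_mul hc0 hi0, Finsupp.add_apply] at h5
  have h6 : (898128000 : ℕ).factorization 2 = 7 := by
    rw [show (898128000 : ℕ) = 2 ^ 7 * 7016625 by norm_num, Nat.factorization_mul (by norm_num) (by norm_num),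
      Nat.factorization_pow, Finsupp.add_apply, Nat.factorization_eq_zero_of_not_dvd (n := 7016625) (by norm_num)]
    simp [Nat.Prime.factorization_self Nat.prime_two]
  rw [h6] at h5
  apply h1
  exact (Nat.pow_dvd_pow 2 (by omega : 5 ≤ (Nat.card (Subgroup.centralizer ({y} : Set N))).factorization 2)).trans
    (Nat.ordProj_dvd _ _)

/-- **Row `McL`.** -/
theorem evenB_mcl {S : Type u} [Group S] (h : Cfsg.Spor.IsoMcL S) : EvenB S := by
  obtain ⟨e⟩ := h
  letI := act K0 X0 (xs_inv _ _)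
  obtain ⟨φ, ψ, h1, h2, h3⟩ := chars
  refine Two.evenB_of_two (e.trans H713.Spor.McL.mclEquiv).symm ↥X0 hinj haut φ ψ (by rw [h1]; decide)
    (by rw [h1, h2]; norm_num) h3 ?_
  intro N _ _ hN M hM θ hθ
  obtain ⟨f⟩ := hN
  exact mem (H713.Spor.McL.mclEquiv.trans f) hM θ (by rw [hθ, h1])

/-- Every automorphism of `McL` has a 2-power which is inner. -/
theorem pow_inner {S : Type*} [Group S] (h : Cfsg.Spor.IsoMcL S) (α : S ≃* S) :
    ∃ j : ℕ, ∃ s : S, ∀ x : S, ((α : MulAut S) ^ 2 ^ j) x = s * x * s⁻¹ := by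
  obtain ⟨e⟩ := h
  obtain ⟨β, hβ⟩ : ∃ β : MulAut ↥Spor.McL, β = (e.symm.trans α).trans e := ⟨_, rfl⟩
  have h1 : β * β ∈ (MulAut.conj : ↥Spor.McL →* MulAut ↥Spor.McL).range := by
    by_cases hr : β ∈ (MulAut.conj : ↥Spor.McL →* MulAut ↥Spor.McL).range
    · exact mul_mem hr hr
    · obtain ⟨hfin, hsimple, hcard, ⟨L⟩⟩ := TypeM.FactsMcL.exists_mt_mcl
      exact TypeM.OuterInst.mul_mem_range L (Or.inl rfl) (TypeM.FactsAut.gen L (Or.inl ⟨rfl, hcard⟩)) hr hr
  obtain ⟨g, hg⟩ := h1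
  refine ⟨1, e.symm g, fun x => ?_⟩
  have h2 := DFunLike.congr_fun hg (e x)
  rw [hβ] at h2
  have h3 : (((e.symm.trans α).trans e : MulAut ↥Spor.McL) * ((e.symm.trans α).trans e : MulAut ↥Spor.McL)) (e x) =
      e (α (α x)) := by
    show e (α (e.symm (e (α (e.symm (e x)))))) = _
    rw [MulEquiv.symm_apply_apply, MulEquiv.symm_apply_apply]
  rw [h3] at h2
  have h4 : ((α : MulAut S) ^ 2 ^ 1) x = α (α x) := by
    rw [pow_one, pow_two]
    rfl
  rw [h4]
  apply e.injective
  rw [← h2, map_mul, map_mul, map_inv, MulEquiv.apply_symm_apply]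
  rfl

theorem evenJ_mcl {S : Type u} [Group S] (h : Cfsg.Spor.IsoMcL S) : EvenJ S :=
  evenJ_of_inner (pow_inner h) (evenB_mcl h)

end Cfsg.Agent.H332.EB.McL
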