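import Cfsg.Agent.H305.EB.Inner

/-!
# TEAM EB: rank 3, the coefficients of one orbital even (helper332)

`mem_of_zero` : `R3 G X R k l`, `k`, `λ`, `μ` even, and the number of conjugates of `g` mapping `y` to `x` is even if
`x ≠ y` are not in relation: all the constituents of the permutation character are in the principal 2-block.
-/

set_option autoImplicit false
set_option linter.unusedSectionVars false
set_option linter.style.haveILetI false

namespace Cfsg.Agent.H332.EB.Zero

open Cfsg Cfsg.Agent.Characters Cfsg.Agent.Characters.Core Cfsg.Agent.H665.NoPQ Cfsg.Agent.H690.Spor.RankThree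
open Cfsg.Agent.H690.Spor.RankThree.R3 Cfsg.Agent.H610.EB Cfsg.Agent.H694 Cfsg.Agent.H694.EB
open Cfsg.Agent.H610 Cfsg.Agent.H305.EB
open scoped ComplexConjugate

universe u v

variable {G : Type u} {X : Type v} [Group G] [Fintype G] [MulAction G X] {R : X → X → Prop} {k l : ℕ}
variable [Fintype X] [DecidableEq X] [DecidableRel R]

theorem mem_of_zero (h : R3 G X R k l) {a b : ℕ} (ha : Even a) (hb : Even b) (hk : Even k)
    (hab : ∀ x y, ∑ z, adj R x z * adj R z y = (k - b : ℂ) * dia x y + (a - b : ℂ) * adj R x y + b)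
    (h0 : ∀ (g : G) (x y : X), x ≠ y → ¬ R x y → Even (cn g x y))
    {M : Ideal AlgInt} (hM : IsPModular 2 M) (χ : IrrCharacter G)
    (hχ : classInner (permC G X) (χ : G → ℂ) ≠ 0) : χ ∈ principalBlock M G := by
  classical
  refine mem_principalBlock (X := X) hM χ ?_ ?_
  · intro h0
    apply hχ
    rw [classInner_def]
    have h1 : ∀ g : G, permC G X g * conj ((χ : G → ℂ) g) =
        (Nat.card {x : X // g • x = x} : ℂ) * (χ : G → ℂ) g⁻¹ := by
      intro g
      rw [isCharacter_apply_inv (isIrr_isCharacter χ.2)]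
      rfl
    rw [Finset.sum_congr rfl fun g _ => h1 g, h0, mul_zero]
  · intro g _
    refine ⟨2, ?_⟩
    have hX0 : Nat.card X = 1 + k + l := h.cardn
    have hne : Nonempty X := by
      rw [← Finite.card_pos_iff]
      omega
    obtain ⟨x0⟩ := hne
    have := h.trans
    have hcn : ∀ (s : G) (x y : X), cn g (s • x) (s • y) = cn g x y := by
      intro s x y
      refine Nat.card_congr ⟨fun t => ⟨s⁻¹ * t.1 * s, ?_, ?_⟩, fun t => ⟨s * t.1 * s⁻¹, ?_, ?_⟩, fun t => ?_, fun t => ?_⟩
      · obtain ⟨c, hc⟩ := isConj_iff.1 t.2.1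
        exact isConj_iff.2 ⟨s⁻¹ * c, by rw [← hc]; group⟩
      · rw [mul_smul, mul_smul, t.2.2, inv_smul_smul]
      · obtain ⟨c, hc⟩ := isConj_iff.1 t.2.1
        exact isConj_iff.2 ⟨s * c, by rw [← hc]; group⟩
      · rw [mul_smul, mul_smul, inv_smul_smul, t.2.2]
      · apply Subtype.ext
        show s * (s⁻¹ * t.1 * s) * s⁻¹ = t.1
        group
      · apply Subtype.ext
        show s⁻¹ * (s * t.1 * s⁻¹) * s = t.1
        group
    -- the coefficients
    obtain ⟨c0, c1, hc⟩ : ∃ c0 c1 : ZMod 2, ∀ x y : X, (cn g x y : ZMod 2) =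
        c0 * (if x = y then 1 else 0) + c1 * (if R x y then 1 else 0) := by
      obtain ⟨y1, hy1⟩ : ∃ y, R x0 y := by
        have h1 := h.cardk x0
        have h2 : Nonempty {y // R x0 y} := by
          rw [← Finite.card_pos_iff, h1]
          exact h.k0
        obtain ⟨⟨y, hy⟩⟩ := h2
        exact ⟨y, hy⟩
      refine ⟨(cn g x0 x0 : ZMod 2), (cn g x0 y1 : ZMod 2), fun x y => ?_⟩
      by_cases hxy : x = y
      · subst hxy
        obtain ⟨s, hs⟩ := MulAction.exists_smul_eq G x0 x
        rw [if_pos rfl, if_neg (h.irr x), ← hs, hcn]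
        ring
      · by_cases hR : R x y
        · obtain ⟨s, hs1, hs2⟩ := h.one x0 y1 x y hy1 hR
          rw [if_neg hxy, if_pos hR, ← hs1, ← hs2, hcn]
          ring
        · rw [if_neg hxy, if_neg hR, (ZMod.natCast_eq_zero_iff_even).2 (h0 g x y hxy hR)]
          ring
    have hk2 : (k : ZMod 2) = 0 := (ZMod.natCast_eq_zero_iff_even).2 hk
    -- the row sums
    have hrow : ((Subgroup.centralizer ({g} : Set G)).index : ZMod 2) = c0 := by
      have h1 : ∑ y : X, cn g y x0 = (Subgroup.centralizer ({g} : Set G)).index := by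
        unfold cn
        rw [Blocks.ClassScalar.index_centralizer, ← Nat.card_sigma]
        exact Nat.card_congr
          { toFun := fun t => ⟨t.2.1, t.2.2.1⟩
            invFun := fun t => ⟨t.1 • x0, t.1, t.2, rfl⟩
            left_inv := by
              rintro ⟨y, t, ht, rfl⟩
              rfl
            right_inv := fun t => rfl }
      rw [← h1]
      push_cast
      rw [Finset.sum_congr rfl fun y _ => hc y x0, Finset.sum_add_distrib, ← Finset.mul_sum, ← Finset.mul_sum]
      have h2 : ∑ y : X, (if y = x0 then (1 : ZMod 2) else 0) = 1 := by simp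
      have h3 : ∑ y : X, (if R y x0 then (1 : ZMod 2) else 0) = k := by
        rw [← sum_A2 h x0]
        refine Finset.sum_congr rfl fun y _ => ?_
        rw [A2_symm h]
        rfl
      rw [h2, h3, hk2]
      ring
    have hK : (Matrix.of fun x y : X => (cn g x y : ZMod 2)) -
        ((Subgroup.centralizer ({g} : Set G)).index : ZMod 2) • 1 = c1 • A2 R := by
      ext x y
      rw [hrow]
      simp only [Matrix.sub_apply, Matrix.smul_apply, Matrix.of_apply, Matrix.one_apply, hc, A2, smul_eq_mul]
      ring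
    have hAA := A2_sq ha hb hab
    rw [hk2, zero_smul] at hAA
    rw [hK, sq, Matrix.smul_mul, Matrix.mul_smul, hAA, smul_zero, smul_zero]

end Cfsg.Agent.H332.EB.Zero
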